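import Mathlib
import Cfsg.Agent.Lib.Helper40.L13.Defs
import Cfsg.Agent.Lib.Helper40.L13.QI
import Cfsg.Agent.S2508
import Cfsg.Agent.Lib.Helper5.LinearCard

/-! S4234 farm, piece QJ. Centralisers in PSL₂(13) from S2508. -/

set_option autoImplicit false

namespace Cfsg.Agent.Lib.Helper40.L13

theorem psl13_centralizer_cases (x : PSL13) :
    Nat.card (Subgroup.centralizer ({x} : Set PSL13)) = 1092 ∨
    Nat.card (Subgroup.centralizer ({x} : Set PSL13)) = 13 ∨
    Nat.card (Subgroup.centralizer ({x} : Set PSL13)) = 12 ∨
    Nat.card (Subgroup.centralizer ({x} : Set PSL13)) = 7 ∨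
    Nat.card (Subgroup.centralizer ({x} : Set PSL13)) = 6 := by
  have h := (Cfsg.Agent.S2508.result (F := ZMod 13) (by rw [ZMod.card 13]; norm_num)
    (by rw [ZMod.card 13]; norm_num)).1 (by rw [ZMod.card 13])
  have hx : (Subgroup.centralizer ({x} : Set PSL13)).index ∈ Set.range (fun g : PSL13 =>
      (Subgroup.centralizer ({g} : Set PSL13)).index) := ⟨x, rfl⟩
  rw [h, ZMod.card 13] at hx
  simp only [Set.mem_insert_iff, Set.mem_singleton_iff] at hx
  have h3 := (Subgroup.centralizer ({x} : Set PSL13)).card_mul_index
  rw [psl13_card] at h3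
  rcases hx with hx | hx | hx | hx | hx <;> rw [hx] at h3 <;> norm_num at h3 <;> omega

theorem psl13_centralizer_ne (x : PSL13) (hx : x ≠ 1) :
    Nat.card (Subgroup.centralizer ({x} : Set PSL13)) ≠ 1092 := by
  intro h
  have hfin : Finite PSL13 := Nat.finite_of_card_ne_zero (by rw [psl13_card]; norm_num)
  have hs := psl13_simple
  have htop : Subgroup.centralizer ({x} : Set PSL13) = ⊤ :=
    Subgroup.eq_top_of_card_eq _ (by rw [h, psl13_card])
  have hxc : x ∈ Subgroup.center PSL13 := by
    rw [Subgroup.mem_center_iff]
    intro g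
    have hg : g ∈ Subgroup.centralizer ({x} : Set PSL13) := by rw [htop]; trivial
    exact (Subgroup.mem_centralizer_singleton_iff.mp hg)
  rcases (inferInstance : (Subgroup.center PSL13).Normal).eq_bot_or_eq_top with hb | ht
  · rw [hb] at hxc
    exact hx (Subgroup.mem_bot.mp hxc)
  · -- abelian simple group has prime order
    have hcomm : ∀ a b : PSL13, a * b = b * a := by
      intro a b
      have ha : a ∈ Subgroup.center PSL13 := by rw [ht]; trivial
      exact (Subgroup.mem_center_iff.mp ha b).symm
    have hn : (Subgroup.zpowers x).Normal := by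
      constructor
      intro n hn g
      rw [hcomm g n, mul_assoc, mul_inv_cancel, mul_one]
      exact hn
    rcases hn.eq_bot_or_eq_top with h1 | h1
    · exact hx (Subgroup.zpowers_eq_bot.mp h1)
    · -- cyclic of order 1092: the subgroup generated by x^2 is normal, proper, nontrivial
      have hn2 : (Subgroup.zpowers (x ^ 2)).Normal := by
        constructor
        intro n hn g
        rw [hcomm g n, mul_assoc, mul_inv_cancel, mul_one]
        exact hn
      have ho : orderOf x = 1092 := by
        rw [← Nat.card_zpowers, h1, Subgroup.card_top, psl13_card]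
      have ho2 : orderOf (x ^ 2) = 546 := by
        rw [orderOf_pow, ho]; norm_num
      have hc2 : Nat.card (Subgroup.zpowers (x ^ 2)) = 546 := by rw [Nat.card_zpowers, ho2]
      rcases hn2.eq_bot_or_eq_top with h2 | h2
      · rw [h2] at hc2; simp at hc2
      · rw [h2, Subgroup.card_top, psl13_card] at hc2; norm_num at hc2

theorem psl13_orderOf_dvd (x : PSL13) :
    orderOf x ∣ Nat.card (Subgroup.centralizer ({x} : Set PSL13)) :=
  Subgroup.orderOf_dvd_natCard _ (Subgroup.mem_centralizer_singleton_iff.mpr rfl)

theorem psl13_centralizer_thirteen (x : PSL13) (hx : orderOf x = 13) :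
    Nat.card (Subgroup.centralizer ({x} : Set PSL13)) = 13 := by
  have h1 := psl13_centralizer_cases x
  have h2 := psl13_centralizer_ne x (by rintro rfl; simp at hx)
  have h3 := psl13_orderOf_dvd x
  rw [hx] at h3
  rcases h1 with h | h | h | h | h
  · exact absurd h h2
  · exact h
  · rw [h] at h3; norm_num at h3
  · rw [h] at h3; norm_num at h3
  · rw [h] at h3; norm_num at h3

theorem psl13_centralizer_two (x : PSL13) (hx : orderOf x = 2) :
    Nat.card (Subgroup.centralizer ({x} : Set PSL13)) = 12 := by
  have hfin : Finite PSL13 := Nat.finite_of_card_ne_zero (by rw [psl13_card]; norm_num)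
  have h1 := psl13_centralizer_cases x
  have h2 := psl13_centralizer_ne x (by rintro rfl; simp at hx)
  have h3 := psl13_orderOf_dvd x
  rw [hx] at h3
  have h4 : 4 ∣ Nat.card (Subgroup.centralizer ({x} : Set PSL13)) := by
    have : Fact (Nat.Prime 2) := ⟨Nat.prime_two⟩
    have hp : IsPGroup 2 (Subgroup.zpowers x) :=
      IsPGroup.of_card (n := 1) (by rw [Nat.card_zpowers, hx]; norm_num)
    obtain ⟨S, hS⟩ := hp.exists_le_sylow
    have hS4 : Nat.card S = 4 := by
      rw [S.card_eq_multiplicity, psl13_card]
      have : (1092 : ℕ).factorization 2 = 2 := by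
        have e : (1092 : ℕ) = 2 ^ 2 * 273 := by norm_num
        rw [e, Nat.factorization_mul (by norm_num) (by norm_num),
          Nat.Prime.factorization_pow (by norm_num)]
        simp
        exact Nat.factorization_eq_zero_of_not_dvd (by norm_num)
      rw [this]; norm_num
    have hcomm : ∀ a b : S, a * b = b * a := by
      have := IsPGroup.commutative_of_card_eq_prime_sq (p := 2) (G := S) (by rw [hS4]; norm_num)
      exact this
    have hle : (S : Subgroup PSL13) ≤ Subgroup.centralizer ({x} : Set PSL13) := by
      intro s hs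
      rw [Subgroup.mem_centralizer_singleton_iff]
      have hxS : x ∈ (S : Subgroup PSL13) := hS (Subgroup.mem_zpowers x)
      have := hcomm ⟨s, hs⟩ ⟨x, hxS⟩
      exact congrArg Subtype.val this
    rw [← hS4]
    exact Subgroup.card_dvd_of_le hle
  rcases h1 with h | h | h | h | h
  · exact absurd h h2
  · rw [h] at h3; norm_num at h3
  · exact h
  · rw [h] at h3; norm_num at h3
  · rw [h] at h4; norm_num at h4

end Cfsg.Agent.Lib.Helper40.L13
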