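import Mathlib
import Cfsg.Agent.Lib.Helper40.L13.Defs
import Cfsg.Agent.Lib.Helper40.L13.QA
import Cfsg.Agent.Lib.Helper40.L13.QC
import Cfsg.Agent.Lib.Helper40.L13.QD
import Cfsg.Agent.Lib.Helper40.L13.QE
import Cfsg.Agent.Lib.Helper40.L13.QF
import Cfsg.Agent.Lib.Helper40.L13.QG
import Cfsg.Agent.Lib.Helper40.L13.QH
import Cfsg.Agent.Lib.Helper40.L13.QI
import Cfsg.Agent.Lib.Helper40.L13.QJ
import Cfsg.Agent.Lib.Helper40.L13.QK
import Cfsg.Agent.Lib.Helper40.L13.QS
import Cfsg.Agent.Lib.Helper40.L13.QP
import Cfsg.Agent.Lib.Helper40.L13.QM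

/-! S4234: assembly. -/

set_option autoImplicit false

namespace Cfsg.Agent.Lib.Helper40.L13

variable {G : Type*} [Group G]

theorem maxNorm_of_hyps [Finite G] [IsSimpleGroup G] (hc : Nat.card G = 1092) (hL : OrdList G)
    (hC13 : ∀ x : G, orderOf x = 13 → Nat.card (Subgroup.centralizer ({x} : Set G)) = 13)
    (hC2 : ∀ x : G, orderOf x = 2 → Nat.card (Subgroup.centralizer ({x} : Set G)) = 12) :
    MaxNorm G := by
  intro H hH
  have h := hL H
  simp only [Finset.mem_insert, Finset.mem_singleton] at h
  have key : ∀ n : ℕ, Nat.card (Subgroup.normalizer (H : Set G)) = n →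
      (n = 12 ∨ n = 14 ∨ n = 78) → IsCoatom (Subgroup.normalizer (H : Set G)) := by
    intro n hn hn'
    exact isCoatom_of_card hc hL _ (by rw [hn]; exact hn')
  rcases h with h | h | h | h | h | h | h | h | h | h | h | h | h
  · exfalso
    apply hH
    rw [Subgroup.card_eq_one.mp h]
    infer_instance
  · exact key 12 (card_normalizer_two hC2 H h) (by norm_num)
  · exact key 12 (card_normalizer_three hc hL H h) (by norm_num)
  · exact key 12 (card_normalizer_four hc hL H h) (by norm_num)
  · exact key 12 (card_normalizer_six (card_normalizer_three hc hL) H h) (by norm_num)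
  · exact key 14 (card_normalizer_seven hc hL H h) (by norm_num)
  · rw [normalizer_eq_self_of_card hc hL H (Or.inl h)]
    exact isCoatom_of_card hc hL H (Or.inl h)
  · exact key 78 (card_normalizer_thirteen hc hL H h) (by norm_num)
  · rw [normalizer_eq_self_of_card hc hL H (Or.inr (Or.inl h))]
    exact isCoatom_of_card hc hL H (Or.inr (Or.inl h))
  · exact key 78 (card_normalizer_of_thirteen_dvd (card_normalizer_thirteen hc hL) hC13 H
      (Or.inl h)) (by norm_num)
  · exact key 78 (card_normalizer_of_thirteen_dvd (card_normalizer_thirteen hc hL) hC13 H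
      (Or.inr h)) (by norm_num)
  · rw [normalizer_eq_self_of_card hc hL H (Or.inr (Or.inr h))]
    exact isCoatom_of_card hc hL H (Or.inr (Or.inr h))
  · exfalso
    apply hH
    have : H = ⊤ := Subgroup.eq_top_of_card_eq H (by rw [h, hc])
    rw [this]
    infer_instance

theorem psl13_maxNorm : MaxNorm PSL13 := by
  have hfin : Finite PSL13 := Nat.finite_of_card_ne_zero (by rw [psl13_card]; norm_num)
  have hs := psl13_simple
  exact maxNorm_of_hyps psl13_card psl13_ordList psl13_centralizer_thirteen psl13_centralizer_two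

theorem sl13_maxNorm : MaxNorm SL13 := by
  have hfin : Finite SL13 := inferInstance
  exact maxNorm_of_quotient_center sl13_card_center sl13_sq_eq_one psl13_maxNorm

end Cfsg.Agent.Lib.Helper40.L13
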